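/-
Words in the automorphism group of the lattice, compared on the coordinate axes.
-/
import Cfsg.Agent.Lib.CoTwoMult.Words

set_option autoImplicit false

namespace CfsgLib.CoOneMult

open Cfsg CfsgGolay CfsgLeech CfsgLeechOrb
open CfsgLib.CoTwoMult (forceN forceN_eq runC runC_spec axCode ax_vec runW_append ext_of_ax sameW)
open scoped Pointwise

attribute [local irreducible] codeL octadL dodecadL slpCodes

/-- A word of an element of the stabiliser. -/
noncomputable def okW (w : List Step) : Bool := wordOK w

open scoped Classical in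
/-- The element of a word. -/
noncomputable def el (w : List Step) : ↥Co0 :=
  if h : okW w = true then (exists_word_aut h).choose else 1

theorem el_spec {w : List Step} (h : okW w = true) (v : ↥leechLattice) :
    ((el w • v : ↥leechLattice) : GolayPt → ℤ) = runW w v := by
  rw [el, dif_pos h]
  exact (exists_word_aut h).choose_spec v


theorem el_nil : el [] = 1 := by
  have h : okW [] = true := by
    simp [okW, wordOK]
  exact aut_ext fun v => by rw [el_spec h, one_smul]; rfl

theorem el_eq_of_sameW {v w : List Step} (hv : okW v = true) (hw : okW w = true) (h : sameW v w = true) :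
    el v = el w := by
  simp only [sameW, Bool.and_eq_true, List.all_eq_true, List.mem_range, forceN_eq, Nat.blt_eq] at h
  refine ext_of_ax fun j => Subtype.ext ?_
  obtain ⟨hpos, he⟩ := h (idx j) (idx_lt j)
  obtain ⟨r, hr⟩ := Nat.exists_eq_succ_of_ne_zero hpos.ne'
  rw [el_spec hv, el_spec hw, ← ax_vec, runC_spec v _ r hr,
    runC_spec w _ r ((Nat.eq_of_beq_eq_true he).symm.trans hr)]

/-- The word of a product of numbered elements. -/
def cw (gw : List (List Step)) : List ℕ → List Step
  | [] => []
  | a :: l => cw gw l ++ gw.getD a []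

/-- The numbered elements. -/
noncomputable def gE (gw : List (List Step)) (k : ℕ) : ↥Co0 := el (gw.getD k [])

theorem el_append {v w : List Step} (hv : okW v = true) (hw : okW w = true) :
    okW (v ++ w) = true ∧ el (v ++ w) = el w * el v := by
  have hok : okW (v ++ w) = true := by
    unfold okW at hv hw ⊢
    induction v with
    | nil => exact hw
    | cons s v ih =>
      match s with
      | none => exact ih hv
      | some (c, m) =>
        simp only [wordOK, List.cons_append, Bool.and_eq_true] at hv ⊢
        exact ⟨hv.1, ih hv.2⟩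
  refine ⟨hok, aut_ext fun x => ?_⟩
  rw [el_spec hok, runW_append, mul_smul, el_spec hw, el_spec hv]
/-- All listed words are words of elements. -/
noncomputable def okWs (gw : List (List Step)) : Bool := gw.all okW

theorem okW_getD {gw : List (List Step)} (h : okWs gw = true) (k : ℕ) : okW (gw.getD k []) = true := by
  rcases Nat.lt_or_ge k gw.length with hk | hk
  · rw [List.getD_eq_getElem _ _ hk]
    exact List.all_eq_true.mp h _ (List.getElem_mem hk)
  · rw [List.getD_eq_default _ _ hk]
    simp [okW, wordOK]

theorem el_cw {gw : List (List Step)} (h : okWs gw = true) (l : List ℕ) :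
    okW (cw gw l) = true ∧ el (cw gw l) = StemSylow.Collect.ev (gE gw) l := by
  induction l with
  | nil => exact ⟨by simp [cw, okW, wordOK], el_nil⟩
  | cons a l ih =>
    obtain ⟨h1, h2⟩ := el_append ih.1 (okW_getD h a)
    refine ⟨h1, ?_⟩
    show el (cw gw l ++ gw.getD a []) = _
    rw [h2, ih.2, StemSylow.Collect.ev_cons]
    rfl

/-- The check of the facts of a certificate. -/
noncomputable def okFacts (gw tw : List (List Step)) (facts : List (ℕ × List ℕ × List ℕ)) : Bool :=
  okWs gw && okWs tw && (tw.getD 0 []).isEmpty &&
    facts.all fun f => sameW (cw gw f.2.1 ++ tw.getD f.1 []) (tw.getD f.1 [] ++ cw gw f.2.2)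

theorem facts_of_ok {gw tw : List (List Step)} {facts : List (ℕ × List ℕ × List ℕ)}
    (h : okFacts gw tw facts = true) :
    gE tw 0 = 1 ∧ ∀ m < facts.length, gE tw (facts.getD m (0, [], [])).1 *
      StemSylow.Collect.ev (gE gw) (facts.getD m (0, [], [])).2.1 * (gE tw (facts.getD m (0, [], [])).1)⁻¹ =
        StemSylow.Collect.ev (gE gw) (facts.getD m (0, [], [])).2.2 := by
  simp only [okFacts, Bool.and_eq_true] at h
  obtain ⟨⟨⟨hg, ht⟩, hone⟩, hall⟩ := h
  refine ⟨by rw [gE, List.isEmpty_iff.mp hone, el_nil], fun m hm => ?_⟩
  have e := el_eq_of_sameW (el_append (el_cw hg _).1 (okW_getD ht _)).1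
    (el_append (okW_getD ht _) (el_cw hg _).1).1 (List.all_eq_true.mp hall _ (List.getElem_mem hm))
  rw [List.getD_eq_getElem _ _ hm, mul_inv_eq_iff_eq_mul, ← (el_cw hg _).2, ← (el_cw hg _).2]
  show el _ * _ = _ * el _
  rw [← (el_append (el_cw hg _).1 (okW_getD ht _)).2, ← (el_append (okW_getD ht _) (el_cw hg _).1).2]
  exact e

instance instFiniteCoZero : Finite ↥Co0 := co0_finite

end CfsgLib.CoOneMult
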