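/-
Lower bounds for subgroups given by words: images of axes along a chain.
-/
import Cfsg.Agent.Lib.CoOneMult.Words
import Cfsg.Agent.Lib.Leech.ModelCheck

set_option autoImplicit false

namespace CfsgLib.CoOneMult

open Cfsg CfsgGolay CfsgLeech CfsgLeechOrb
open CfsgLeech.Models (vecL vecL_coe)
open CfsgLib.CoTwoMult (forceN forceN_eq runC runC_spec)
open scoped Pointwise

attribute [local irreducible] codeL octadL dodecadL slpCodes

/-- The product given by a list fixes a vector. -/
noncomputable def fixAx (R : List ℕ → ℕ → ℕ) (l : List ℕ) (j : ℕ) : Bool := Nat.beq (R l j) (j + 1)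

/-- A way of running products of numbered elements is right. -/
def RunSound (gw : List (List Step)) (n : ℕ) (R : List ℕ → ℕ → ℕ) : Prop :=
  ∀ l : List ℕ, (∀ a ∈ l, a < n) → ∀ j r : ℕ, inLatB (vecN j) = true → R l j = r + 1 →
    ((StemSylow.Collect.ev (gE gw) l • vecL j : ↥leechLattice) : GolayPt → ℤ) = vecN r

theorem runSound_words {gw : List (List Step)} (hgw : okWs gw = true) (n : ℕ) :
    RunSound gw n fun l c => runC (cw gw l) c := fun l _ j r hj hr => by
  rw [← (el_cw hgw l).2, el_spec (el_cw hgw l).1, vecL_coe hj, runC_spec _ _ r hr]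

/-- The images of the axis increase along the list. -/
noncomputable def levelOK (R : List ℕ → ℕ → ℕ) (n : ℕ) (prev : List ℕ) (j : ℕ) : ℕ → List (List ℕ) → Bool
  | _, [] => true
  | lo, l :: L => forceN (R l j) fun r =>
      l.all (fun a => Nat.blt a n) && prev.all (fixAx R l) && Nat.blt lo r && Nat.ble r (2 ^ 120) &&
        levelOK R n prev j r L

/-- All levels of a chain are right. -/
noncomputable def chainOK (R : List ℕ → ℕ → ℕ) (n : ℕ) : List ℕ → List (ℕ × List (List ℕ)) → Bool
  | _, [] => true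
  | prev, (j, L) :: rest =>
      inLatB (vecN j) && levelOK R n prev j 0 L && chainOK R n (prev ++ [j]) rest

/-- The size of a chain. -/
def chainSize : List (ℕ × List (List ℕ)) → ℕ
  | [] => 1
  | (_, L) :: rest => L.length * chainSize rest

theorem levelOK_spec {R : List ℕ → ℕ → ℕ} {n : ℕ} {prev : List ℕ} {j : ℕ} :
    ∀ {lo : ℕ} {L : List (List ℕ)}, levelOK R n prev j lo L = true →
      (∀ l ∈ L, (∀ a ∈ l, a < n) ∧ (∀ i ∈ prev, fixAx R l i = true) ∧
        lo < R l j ∧ R l j ≤ 2 ^ 120) ∧
      L.Pairwise fun l l' => R l j < R l' j := by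
  intro lo L
  induction L generalizing lo with
  | nil => intro _; simp
  | cons l L ih =>
    intro h
    simp only [levelOK, forceN_eq, Bool.and_eq_true, List.all_eq_true, Nat.blt_eq, Nat.ble_eq] at h
    obtain ⟨⟨⟨⟨h1, h2⟩, h3⟩, h4⟩, h5⟩ := h
    obtain ⟨i1, i2⟩ := ih h5
    refine ⟨fun x hx => ?_, List.pairwise_cons.mpr ⟨fun x hx => (i1 x hx).2.2.1, i2⟩⟩
    rcases List.mem_cons.mp hx with rfl | hx
    · exact ⟨h1, h2, h3, h4⟩
    · exact ⟨(i1 x hx).1, (i1 x hx).2.1, h3.trans (i1 x hx).2.2.1, (i1 x hx).2.2.2⟩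

/-- The members of a subgroup fixing some axes. -/
noncomputable def fixPart (H : Subgroup ↥Co0) (prev : List ℕ) : Subgroup ↥Co0 where
  carrier := {g | g ∈ H ∧ ∀ i ∈ prev, g • vecL i = vecL i}
  one_mem' := ⟨one_mem H, fun i _ => one_smul _ _⟩
  mul_mem' := fun {a b} ha hb => ⟨mul_mem ha.1 hb.1, fun i hi => by rw [mul_smul, hb.2 i hi, ha.2 i hi]⟩
  inv_mem' := fun {a} ha => ⟨inv_mem ha.1, fun i hi => by rw [inv_smul_eq_iff, ha.2 i hi]⟩

theorem card_ge_chain {gw : List (List Step)} {n : ℕ} {R : List ℕ → ℕ → ℕ} (hR : RunSound gw n R) :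
    ∀ {prev : List ℕ} {ch : List (ℕ × List (List ℕ))}, (∀ i ∈ prev, inLatB (vecN i) = true) → chainOK R n prev ch = true →
      chainSize ch ≤ Nat.card (fixPart (Subgroup.closure (gE gw '' {k | k < n})) prev) := by
  intro prev ch
  induction ch generalizing prev with
  | nil => intro _ _; exact Nat.card_pos
  | cons p rest ih =>
    obtain ⟨j, L⟩ := p
    intro hprev h
    simp only [chainOK, Bool.and_eq_true] at h
    obtain ⟨⟨hj, hL⟩, hrest⟩ := h
    obtain ⟨hspec, hpair⟩ := levelOK_spec hL
    have hlen := ih (fun i hi => by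
      rcases List.mem_append.mp hi with hi | hi
      · exact hprev i hi
      · exact (List.mem_singleton.mp hi) ▸ hj) hrest
    set H := Subgroup.closure (gE gw '' {k | k < n}) with hH
    have hmem : ∀ l ∈ L, StemSylow.Collect.ev (gE gw) l ∈ fixPart H prev := fun l hl => by
      refine ⟨?_, fun i hi => Subtype.ext ?_⟩
      · refine Subgroup.list_prod_mem _ fun x hx => ?_
        obtain ⟨a, ha, rfl⟩ := List.mem_map.mp hx
        exact Subgroup.subset_closure ⟨a, (hspec l hl).1 a ha, rfl⟩
      · rw [hR l (hspec l hl).1 i i (hprev i hi) (Nat.eq_of_beq_eq_true ((hspec l hl).2.1 i hi)),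
          vecL_coe (hprev i hi)]
    have hsub : fixPart H (prev ++ [j]) ≤ fixPart H prev := fun g hg =>
      ⟨hg.1, fun i hi => hg.2 i (List.mem_append_left _ hi)⟩
    let f : Fin L.length × fixPart H (prev ++ [j]) → fixPart H prev := fun x =>
      ⟨StemSylow.Collect.ev (gE gw) (L.get x.1) * x.2, mul_mem (hmem _ (L.get_mem x.1)) (hsub x.2.2)⟩
    have hf : Function.Injective f := by
      rintro ⟨a, x⟩ ⟨b, y⟩ hab
      have e : StemSylow.Collect.ev (gE gw) (L.get a) * (x : ↥Co0) = StemSylow.Collect.ev (gE gw) (L.get b) * y := congrArg Subtype.val hab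
      have hmove : StemSylow.Collect.ev (gE gw) (L.get a) • vecL j = StemSylow.Collect.ev (gE gw) (L.get b) • vecL j := by
        have := congrArg (fun g => g • vecL j) e
        simpa only [mul_smul, x.2.2 j (by simp), y.2.2 j (by simp)] using this
      obtain ⟨hla, -, ha0, ha1⟩ := hspec _ (L.get_mem a)
      obtain ⟨hlb, -, hb0, hb1⟩ := hspec _ (L.get_mem b)
      obtain ⟨ra, hra⟩ := Nat.exists_eq_succ_of_ne_zero (Nat.ne_zero_of_lt ha0)
      obtain ⟨rb, hrb⟩ := Nat.exists_eq_succ_of_ne_zero (Nat.ne_zero_of_lt hb0)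
      have hr : ra = rb := vecN_inj (by omega) (by omega) (by
        rw [← hR _ hla j ra hj hra, ← hR _ hlb j rb hj hrb, hmove])
      have hab' : a = b := by
        rcases lt_trichotomy a b with h' | h' | h'
        · exact absurd (hra.trans (hr ▸ hrb.symm)) (List.pairwise_iff_get.mp hpair a b h').ne
        · exact h'
        · exact absurd (hrb.trans (hr ▸ hra.symm)) (List.pairwise_iff_get.mp hpair b a h').ne
      subst hab'
      exact Prod.ext rfl (Subtype.ext (mul_left_cancel e))
    have := Nat.card_le_card_of_injective f hf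
    rw [Nat.card_prod, Nat.card_fin] at this
    exact le_trans (Nat.mul_le_mul_left _ hlen) this

theorem card_closure_ge {gw : List (List Step)} {n : ℕ} {R : List ℕ → ℕ → ℕ} (hR : RunSound gw n R) {ch : List (ℕ × List (List ℕ))}
    (h : chainOK R n [] ch = true) :
    chainSize ch ≤ Nat.card (Subgroup.closure (gE gw '' {k | k < n})) := by
  refine (card_ge_chain hR (by simp) h).trans ?_
  exact Nat.card_mono (Set.toFinite _) fun g hg => hg.1

end CfsgLib.CoOneMult
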