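/-
Automorphisms of the lattice applied through tables of the images of the axes.
-/
import Cfsg.Agent.Lib.CoOneMult.Chain

set_option autoImplicit false

namespace CfsgLib.CoOneMult

open Cfsg CfsgGolay CfsgLeech CfsgLeechOrb
open CfsgLeech.Models (vecL vecL_coe)
open CfsgLib.CoTwoMult (forceN forceN_eq runC runC_spec axCode ax_vec ext_of_ax eight_eq packF inRange inRange_spec papp_packF)
open scoped Pointwise

attribute [local irreducible] codeL octadL dodecadL slpCodes

/-- A field of sixteen bits. -/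
def wF (x k : ℕ) : ℕ := Nat.mod (Nat.shiftRight x (Nat.mul 16 k)) 65536

/-- Packing in fields of sixteen bits. -/
noncomputable def wide (f : ℕ → ℕ) (n : ℕ) : ℕ :=
  Nat.rec 0 (fun k a => Nat.add a (Nat.shiftLeft (f k) (Nat.mul 16 k))) n

theorem wide_succ (f : ℕ → ℕ) (n : ℕ) : wide f (n + 1) = wide f n + f n * 2 ^ (16 * n) := by
  show wide f n + (f n) <<< (16 * n) = _
  rw [Nat.shiftLeft_eq]

theorem wide_zero : ∀ n, wide (fun _ => 0) n = 0
  | 0 => rfl
  | n + 1 => by rw [wide_succ, wide_zero n]; simp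

theorem wide_lin (a : ℕ) (f g : ℕ → ℕ) : ∀ n, wide (fun k => a * f k + g k) n = a * wide f n + wide g n
  | 0 => by simp [wide]
  | n + 1 => by rw [wide_succ, wide_succ, wide_succ, wide_lin a f g n]; ring

theorem wide_spec (f : ℕ → ℕ) : ∀ n, (∀ i < n, f i < 65536) → wide f n < 2 ^ (16 * n) ∧ ∀ k < n, wF (wide f n) k = f k
  | 0, _ => by simp [wide]
  | n + 1, hf => by
    obtain ⟨h1, h2⟩ := wide_spec f n fun i hi => hf i (Nat.lt_succ_of_lt hi)
    have hn := hf n (Nat.lt_succ_self n)
    have hpow : 2 ^ (16 * (n + 1)) = 2 ^ (16 * n) * 65536 := by rw [Nat.mul_succ, pow_add]; norm_num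
    refine ⟨?_, fun k hk => ?_⟩
    · rw [hpow, wide_succ]
      calc wide f n + f n * 2 ^ (16 * n) < 2 ^ (16 * n) + f n * 2 ^ (16 * n) := by omega
        _ = (f n + 1) * 2 ^ (16 * n) := by ring
        _ ≤ 65536 * 2 ^ (16 * n) := by gcongr; omega
        _ = _ := by ring
    · rw [wide_succ]
      show (_ >>> (16 * k)) % 65536 = _
      rw [Nat.shiftRight_eq_div_pow]
      rcases Nat.lt_succ_iff_lt_or_eq.mp hk with hkn | rfl
      · have := h2 k hkn
        change (_ >>> (16 * k)) % 65536 = _ at this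
        rw [Nat.shiftRight_eq_div_pow] at this
        rw [← this]
        obtain ⟨d, hd⟩ : ∃ d, n = k + (d + 1) := ⟨n - k - 1, by omega⟩
        have e : f n * 2 ^ (16 * n) = (f n * 2 ^ (16 * d) * 65536) * 2 ^ (16 * k) := by rw [hd]; ring_nf
        rw [e, Nat.add_mul_div_right _ _ (Nat.two_pow_pos _), Nat.add_mul_mod_self_right]
      · rw [Nat.add_mul_div_right _ _ (Nat.two_pow_pos _), Nat.div_eq_of_lt h1, Nat.zero_add, Nat.mod_eq_of_lt hn]

/-- A table: packed rows and packed column sums. -/
abbrev Tab : Type := List ℕ × ℕ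

/-- The rows are the images of the axes under a word and the second entry holds the column sums. -/
noncomputable def tabOK (w : List Step) (T : Tab) : Bool :=
  okW w && Nat.beq T.1.length 24 &&
    ((List.range 24).all fun i => forceN (runC w (axCode i)) fun r =>
      Nat.blt 0 r && Nat.beq (T.1.getD i 0) (wide (fun k => pappF (Nat.pred r) k) 24)) &&
    Nat.beq T.2 (List.rec (motive := fun _ => ℕ) 0 (fun x _ a => Nat.add x a) T.1)

/-- The weighted sum of the rows. -/
noncomputable def sumT (c : ℕ) (rows : List ℕ) : ℕ → ℕ :=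
  List.rec (motive := fun _ => ℕ → ℕ) (fun _ => 0)
    (fun x _ ih i => Nat.add (Nat.mul (pappF c i) x) (ih (Nat.add i 1))) rows

/-- The sum of the fields. -/
noncomputable def sumF (c n : ℕ) : ℕ := Nat.rec 0 (fun k a => Nat.add a (pappF c k)) n

/-- A field of an image, thirty-two if out of range. -/
noncomputable def tV (S A B k : ℕ) : ℕ :=
  forceN (Nat.add (wF S k) 6272) fun u => forceN (Nat.mul 16 (Nat.add A (wF B k))) fun w =>
    cond (Nat.ble w u && Nat.beq (Nat.mod (Nat.sub u w) 8) 0) (Nat.div (Nat.sub u w) 8) 32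

/-- The image of a code; failure gives zero. -/
noncomputable def apT (T : Tab) (c : ℕ) : ℕ :=
  forceN (sumT c T.1 0) fun S => forceN (sumF c 24) fun A =>
    cond (inRange (tV S A T.2) 24) (Nat.succ (packF (tV S A T.2) 24)) 0

theorem sumT_eq (c : ℕ) (t : ℕ → ℕ → ℕ) : ∀ (rows : List ℕ) (i : ℕ),
    (∀ j < rows.length, rows.getD j 0 = wide (t (i + j)) 24) →
      sumT c rows i = wide (fun k => ∑ j ∈ Finset.range rows.length, papp c (i + j) * t (i + j) k) 24 := by
  intro rows
  induction rows with
  | nil =>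
    intro i _
    simp only [List.length_nil, Finset.range_zero, Finset.sum_empty]
    exact (wide_zero 24).symm
  | cons x l ih =>
    intro i h
    show papp c i * x + sumT c l (i + 1) = _
    rw [ih (i + 1) fun j hj => by
      have := h (j + 1) (by simpa using Nat.succ_lt_succ hj)
      rw [List.getD_cons_succ] at this
      rw [this]; congr 1; ring_nf]
    have h0 := h 0 (by simp)
    rw [List.getD_cons_zero, Nat.add_zero] at h0
    rw [h0, ← wide_lin]
    congr 1
    funext k
    rw [List.length_cons, Finset.sum_range_succ' _ l.length, Nat.add_zero, add_comm]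
    congr 1
    exact Finset.sum_congr rfl fun j _ => by ring_nf

theorem sumF_eq (c : ℕ) : ∀ n, sumF c n = ∑ i ∈ Finset.range n, papp c i
  | 0 => rfl
  | n + 1 => by
    rw [Finset.sum_range_succ, ← sumF_eq c n]; rfl

theorem sum_pt (f : GolayPt → ℤ) : ∑ i : GolayPt, f i = ∑ j ∈ Finset.range 24, f (pt j) := by
  refine Finset.sum_nbij' (fun i => idx i) (fun j => pt j) (fun i _ => Finset.mem_range.mpr (idx_lt i))
    (fun _ _ => Finset.mem_univ _) (fun i _ => pt_idx i) (fun j hj => idx_pt (Finset.mem_range.mp hj))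
    (fun i _ => by rw [pt_idx])

theorem colsum_eq (t : ℕ → ℕ → ℕ) : ∀ (rows : List ℕ) (i : ℕ),
    (∀ j < rows.length, rows.getD j 0 = wide (t (i + j)) 24) →
      List.rec (motive := fun _ => ℕ) 0 (fun x _ a => Nat.add x a) rows =
        wide (fun k => ∑ j ∈ Finset.range rows.length, t (i + j) k) 24 := by
  intro rows
  induction rows with
  | nil => intro i _; simpa using (wide_zero 24).symm
  | cons x l ih =>
    intro i h
    show x + List.rec (motive := fun _ => ℕ) 0 (fun x _ a => Nat.add x a) l = _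
    rw [ih (i + 1) fun j hj => by
      have := h (j + 1) (by simpa using Nat.succ_lt_succ hj)
      rw [List.getD_cons_succ] at this
      rw [this]; congr 1; ring_nf]
    have h0 := h 0 (by simp)
    rw [List.getD_cons_zero, Nat.add_zero] at h0
    rw [h0, ← Nat.one_mul (wide (t i) 24), ← wide_lin]
    congr 1
    funext k
    rw [List.length_cons, Finset.sum_range_succ' _ l.length, Nat.add_zero, add_comm, Nat.one_mul]
    congr 1
    exact Finset.sum_congr rfl fun j _ => by ring_nf

/-- A table applies its automorphism. -/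
theorem apT_spec {w : List Step} {T : Tab} (hT : tabOK w T = true) {c d : ℕ} (h : apT T c = d + 1)
    {v : ↥leechLattice} (hv : (v : GolayPt → ℤ) = vecN c) : ((el w • v : ↥leechLattice) : GolayPt → ℤ) = vecN d := by
  simp only [tabOK, Bool.and_eq_true, List.all_eq_true, List.mem_range, forceN_eq, Nat.blt_eq, Nat.beq_eq] at hT
  obtain ⟨⟨⟨hw, hlen⟩, hrows⟩, hcs⟩ := hT
  set t : ℕ → ℕ → ℕ := fun i k => papp (Nat.pred (runC w (axCode i))) k with ht
  have hrow : ∀ j < T.1.length, T.1.getD j 0 = wide (t (0 + j)) 24 := fun j hj => by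
    rw [Nat.zero_add]; exact (hrows j (hlen ▸ hj)).2
  have hS := sumT_eq c t T.1 0 hrow
  have hB := colsum_eq t T.1 0 hrow
  rw [← hcs, hlen] at hB
  rw [hlen] at hS
  simp only [Nat.zero_add] at hS hB
  have hax : ∀ i : GolayPt, ∀ k : GolayPt,
      ((el w • ax i : ↥leechLattice) : GolayPt → ℤ) k = (t (idx i) (idx k) : ℤ) - 16 := fun i k => by
    obtain ⟨r, hr⟩ := Nat.exists_eq_succ_of_ne_zero (hrows (idx i) (idx_lt i)).1.ne'
    rw [el_spec hw, ← ax_vec, runC_spec w _ r hr, ht]
    simp only [hr]
    rfl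
  have ht32 : ∀ i k, t i k < 32 := fun i k => Nat.mod_lt _ (by norm_num)
  have hc32 : ∀ i, papp c i < 32 := fun i => Nat.mod_lt _ (by norm_num)
  simp only [apT, forceN_eq] at h
  cases hr : inRange (tV (sumT c T.1 0) (sumF c 24) T.2) 24 with
  | false => rw [hr] at h; exact absurd h (by simp)
  | true =>
    rw [hr, cond_true] at h
    obtain rfl := Nat.succ_injective h
    funext k
    have hk := inRange_spec _ _ hr (idx k) (idx_lt k)
    have hd := papp_packF hr (idx k) (idx_lt k)
    have e1 := (wide_spec (fun k => ∑ j ∈ Finset.range 24, papp c j * t j k) 24 fun q _ => by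
      refine lt_of_le_of_lt (Finset.sum_le_card_nsmul _ _ (31 * 31) fun j _ =>
        Nat.mul_le_mul (Nat.le_of_lt_succ (hc32 j)) (Nat.le_of_lt_succ (ht32 j q))) (by simp)).2 (idx k) (idx_lt k)
    have e2 := (wide_spec (fun k => ∑ j ∈ Finset.range 24, t j k) 24 fun q _ => by
      refine lt_of_le_of_lt (Finset.sum_le_card_nsmul _ _ 31 fun j _ => Nat.le_of_lt_succ (ht32 j q)) (by simp)).2
        (idx k) (idx_lt k)
    rw [← hS] at e1
    rw [← hB] at e2
    have hlin : (8 : ℤ) * ((el w • v : ↥leechLattice) : GolayPt → ℤ) k =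
        ∑ j ∈ Finset.range 24, ((papp c j : ℤ) - 16) * ((t j (idx k) : ℤ) - 16) := by
      have h8 : (8 : ℤ) • (el w • v) = ∑ i : GolayPt, ((v : GolayPt → ℤ) i) • (el w • ax i) := by
        calc (8 : ℤ) • (el w • v) = autHom (el w) ((8 : ℤ) • v) := (map_zsmul (autHom (el w)) 8 v).symm
          _ = _ := by
            rw [eight_eq, map_sum]
            exact Finset.sum_congr rfl fun i _ => map_zsmul (autHom (el w)) _ _
      have := congrFun (congrArg (fun x : ↥leechLattice => (x : GolayPt → ℤ)) h8) k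
      simp only [AddSubgroup.coe_zsmul, Pi.smul_apply, smul_eq_mul, AddSubgroup.val_finsetSum, Finset.sum_apply] at this
      rw [this, sum_pt]
      refine Finset.sum_congr rfl fun j hj => ?_
      rw [hv, hax, vecN, idx_pt (Finset.mem_range.mp hj)]
    have hexp : ∑ j ∈ Finset.range 24, ((papp c j : ℤ) - 16) * ((t j (idx k) : ℤ) - 16) =
        ((∑ j ∈ Finset.range 24, papp c j * t j (idx k) : ℕ) : ℤ) + 6144 -
          16 * ((((∑ j ∈ Finset.range 24, papp c j : ℕ)) : ℤ) + ((∑ j ∈ Finset.range 24, t j (idx k) : ℕ) : ℤ)) := by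
      simp only [sub_mul, mul_sub, Finset.sum_sub_distrib, ← Finset.sum_mul, ← Finset.mul_sum, Finset.sum_const,
        Finset.card_range, nsmul_eq_mul]
      push_cast
      ring
    rw [hexp, ← e1, ← e2, ← sumF_eq] at hlin
    show _ = (papp _ (idx k) : ℤ) - 16
    rw [hd]
    generalize ((el w • v : ↥leechLattice) : GolayPt → ℤ) k = x at hlin ⊢
    simp only [tV, forceN_eq, Nat.add_eq, Nat.mul_eq, Nat.sub_eq, show ∀ a b, Nat.div a b = a / b from fun _ _ => rfl,
      show ∀ a b, Nat.mod a b = a % b from fun _ _ => rfl] at hk ⊢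
    generalize wF (sumT c T.1 0) (idx k) = S at hlin hk ⊢
    generalize wF T.2 (idx k) = B at hlin hk ⊢
    generalize sumF c 24 = A at hlin hk ⊢
    cases hcnd : (Nat.ble (16 * (A + B)) (S + 6272) && Nat.beq ((S + 6272 - 16 * (A + B)) % 8) 0) with
    | false => rw [hcnd] at hk; simp at hk
    | true =>
      rw [hcnd] at hk
      simp only [cond_true, Bool.and_eq_true, Nat.ble_eq, Nat.beq_eq] at hcnd hk ⊢
      omega

/-- The tables of listed words are right. -/
noncomputable def tabsOK (gw : List (List Step)) (Ts : List Tab) : Bool :=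
  okWs gw && (List.range gw.length).all fun a => tabOK (gw.getD a []) (Ts.getD a ([], 0))

/-- Running a product of numbered elements through tables; failure gives zero. -/
noncomputable def runT (Ts : List Tab) : List ℕ → ℕ → ℕ
  | [], c => c + 1
  | a :: l, c => forceN (runT Ts l c) fun r => cond (Nat.beq r 0) 0 (apT (Ts.getD a ([], 0)) (Nat.pred r))

theorem runT_spec {gw : List (List Step)} {Ts : List Tab} (hT : tabsOK gw Ts = true) :
    ∀ (l : List ℕ), (∀ a ∈ l, a < gw.length) → ∀ {c r : ℕ}, runT Ts l c = r + 1 → ∀ {v : ↥leechLattice},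
      (v : GolayPt → ℤ) = vecN c →
        ((StemSylow.Collect.ev (gE gw) l • v : ↥leechLattice) : GolayPt → ℤ) = vecN r := by
  intro l
  induction l with
  | nil =>
    intro _ c r h v hv
    rw [StemSylow.Collect.ev_nil, one_smul, hv, show c = r from Nat.succ_injective h]
  | cons a l ih =>
    intro ha c r h v hv
    simp only [runT, forceN_eq] at h
    cases hs : runT Ts l c with
    | zero => rw [hs] at h; exact absurd h (by simp)
    | succ d =>
      rw [hs] at h
      rw [StemSylow.Collect.ev_cons, mul_smul]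
      simp only [tabsOK, Bool.and_eq_true, List.all_eq_true, List.mem_range] at hT
      exact apT_spec (hT.2 a (ha a (List.mem_cons_self ..))) h (ih (fun b hb => ha b (List.mem_cons_of_mem _ hb)) hs hv)

/-- Running through tables and then through one more table. -/
noncomputable def runAfter (T : Tab) (r : ℕ) : ℕ := cond (Nat.beq r 0) 0 (apT T (Nat.pred r))

/-- The facts of a certificate, read through tables. -/
noncomputable def okFactsT (gw tw : List (List Step)) (Gs Ts : List Tab) (facts : List (ℕ × List ℕ × List ℕ)) : Bool :=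
  tabsOK gw Gs && tabsOK tw Ts && (tw.getD 0 []).isEmpty && facts.all fun f =>
    Nat.blt f.1 tw.length && (f.2.1.all fun a => Nat.blt a gw.length) && (f.2.2.all fun a => Nat.blt a gw.length) &&
      (List.range 24).all fun j =>
        forceN (runAfter (Ts.getD f.1 ([], 0)) (runT Gs f.2.1 (axCode j))) fun L =>
          Nat.blt 0 L && forceN (apT (Ts.getD f.1 ([], 0)) (axCode j)) fun r =>
            cond (Nat.beq r 0) false (Nat.beq L (runT Gs f.2.2 (Nat.pred r)))

theorem facts_of_okT {gw tw : List (List Step)} {Gs Ts : List Tab} {facts : List (ℕ × List ℕ × List ℕ)}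
    (h : okFactsT gw tw Gs Ts facts = true) :
    gE tw 0 = 1 ∧ ∀ m < facts.length, gE tw (facts.getD m (0, [], [])).1 *
      StemSylow.Collect.ev (gE gw) (facts.getD m (0, [], [])).2.1 * (gE tw (facts.getD m (0, [], [])).1)⁻¹ =
        StemSylow.Collect.ev (gE gw) (facts.getD m (0, [], [])).2.2 := by
  simp only [okFactsT, Bool.and_eq_true, forceN_eq] at h
  obtain ⟨⟨⟨hG, hT⟩, hone⟩, hall⟩ := h
  refine ⟨by rw [gE, List.isEmpty_iff.mp hone, el_nil], fun m hm => ?_⟩
  have hf := List.all_eq_true.mp hall _ (List.getElem_mem hm)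
  rw [List.getD_eq_getElem _ _ hm]
  set f := facts[m]
  simp only [Bool.and_eq_true, List.all_eq_true, Nat.blt_eq, List.mem_range] at hf
  obtain ⟨⟨⟨ht, hq⟩, hr⟩, hj⟩ := hf
  simp only [tabsOK, Bool.and_eq_true, List.all_eq_true, List.mem_range] at hT
  have htab := hT.2 f.1 ht
  rw [mul_inv_eq_iff_eq_mul]
  refine ext_of_ax fun j => Subtype.ext ?_
  obtain ⟨h1, h2⟩ := hj (idx j) (idx_lt j)
  have hax : ((ax j : ↥leechLattice) : GolayPt → ℤ) = vecN (axCode (idx j)) := (ax_vec j).symm
  cases hA : apT (Ts.getD f.1 ([], 0)) (axCode (idx j)) with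
  | zero => rw [hA] at h2; simp at h2
  | succ d =>
    rw [hA] at h2
    have h3 := Nat.eq_of_beq_eq_true (show Nat.beq _ (runT Gs f.2.2 d) = true from h2)
    cases hB : runT Gs f.2.1 (axCode (idx j)) with
    | zero => rw [hB] at h1; simp [runAfter] at h1
    | succ d' =>
      obtain ⟨e, he⟩ := Nat.exists_eq_succ_of_ne_zero h1.ne'
      rw [mul_smul, mul_smul]
      show ((el (tw.getD f.1 []) • (StemSylow.Collect.ev (gE gw) f.2.1 • ax j) : ↥leechLattice) : GolayPt → ℤ) =
        ((StemSylow.Collect.ev (gE gw) f.2.2 • (el (tw.getD f.1 []) • ax j) : ↥leechLattice) : GolayPt → ℤ)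
      rw [runT_spec hG f.2.2 hr (r := e) (h3 ▸ he) (apT_spec htab hA hax),
        apT_spec htab (d := e) (by rw [hB] at he; exact he) (runT_spec hG f.2.1 hq hB hax)]

theorem runSound_tabs {gw : List (List Step)} {Ts : List Tab} (hT : tabsOK gw Ts = true) {n : ℕ}
    (hn : n ≤ gw.length) : RunSound gw n (runT Ts) := fun l hl j r hj hr =>
  runT_spec hT l (fun a ha => lt_of_lt_of_le (hl a ha) hn) hr (vecL_coe hj)

end CfsgLib.CoOneMult
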