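/-
Kernel checks of the collector for 5 of Co0.
-/
import Cfsg.Agent.Lib.CoOneMult.Table
import Cfsg.Agent.Lib.CoOneMult.DataFive

set_option autoImplicit false
set_option maxRecDepth 1000000

namespace CfsgLib.CoOneMult

theorem certFive_ok : certFive.check = true := by decide +kernel

theorem factsFive_ok : okFactsT gwFive twFive gtabFive ttabFive certFive.facts = true := by decide +kernel

theorem chainFive_ok : chainOK (runT gtabFive) 4 [] chainFive = true := by decide +kernel

theorem chainFive_size : chainSize chainFive = 625 ∧ certFive.n = 4 ∧ gwFive.length = 4 := by decide +kernel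

end CfsgLib.CoOneMult
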