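/-
Kernel checks of the collector for 7 of Co0.
-/
import Cfsg.Agent.Lib.CoOneMult.Table
import Cfsg.Agent.Lib.CoOneMult.DataSeven

set_option autoImplicit false
set_option maxRecDepth 1000000

namespace CfsgLib.CoOneMult

theorem certSeven_ok : certSeven.check = true := by decide +kernel

theorem factsSeven_ok : okFactsT gwSeven twSeven gtabSeven ttabSeven certSeven.facts = true := by decide +kernel

theorem chainSeven_ok : chainOK (runT gtabSeven) 2 [] chainSeven = true := by decide +kernel

theorem chainSeven_size : chainSize chainSeven = 49 ∧ certSeven.n = 2 ∧ gwSeven.length = 2 := by decide +kernel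

end CfsgLib.CoOneMult
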