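/-
Kernel checks of the collector for 3 of Co0.
-/
import Cfsg.Agent.Lib.CoOneMult.Table
import Cfsg.Agent.Lib.CoOneMult.DataThree

set_option autoImplicit false
set_option maxRecDepth 1000000

namespace CfsgLib.CoOneMult

theorem certThree_ok : certThree.check = true := by decide +kernel

theorem factsThree_ok : okFactsT gwThree twThree gtabThree ttabThree certThree.facts = true := by decide +kernel

theorem chainThree_ok : chainOK (runT gtabThree) 9 [] chainThree = true := by decide +kernel

theorem chainThree_size : chainSize chainThree = 19683 ∧ certThree.n = 9 ∧ gwThree.length = 9 := by decide +kernel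

end CfsgLib.CoOneMult
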