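/-
Kernel checks of the collector for 2 of Co0.
-/
import Cfsg.Agent.Lib.CoOneMult.Chain
import Cfsg.Agent.Lib.CoOneMult.DataTwo

set_option autoImplicit false
set_option maxRecDepth 1000000

namespace CfsgLib.CoOneMult

theorem certTwo_ok : certTwo.check = true := by decide +kernel

theorem factsTwo_ok : okFacts gwTwo twTwo certTwo.facts = true := by decide +kernel

theorem chainTwo_ok : okWs gwTwo = true ∧ chainOK (fun l c => CfsgLib.CoTwoMult.runC (cw gwTwo l) c) 22 [] chainTwo = true := by decide +kernel

theorem chainTwo_size : chainSize chainTwo = 4194304 ∧ certTwo.n = 22 := by decide +kernel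

end CfsgLib.CoOneMult
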