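/-
The Schur multiplier of Co1 has order two.
-/
import Cfsg.Agent.Lib.CoOneMult.ChecksTwo
import Cfsg.Agent.Lib.CoOneMult.ChecksThree
import Cfsg.Agent.Lib.CoOneMult.ChecksFive
import Cfsg.Agent.Lib.CoOneMult.ChecksSeven
import Cfsg.Agent.Lib.Leech.Co1
import Cfsg.Agent.Lib.PermChain.Schur
import Cfsg.Agent.Lib.SchurSmall
import Cfsg.Agent.Lib.StSL.Split
import Cfsg.Prelude.Def_Spor_Conway

set_option autoImplicit false
set_option maxRecDepth 30000

namespace CfsgLib.CoOneMult

open Subgroup Cfsg CfsgLib.StemSylow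
open scoped commutatorElement

attribute [local irreducible] certTwo certThree certFive certSeven gwTwo twTwo gwThree twThree gwFive twFive gwSeven
  twSeven chainTwo chainThree chainFive chainSeven gtabThree ttabThree gtabFive ttabFive gtabSeven ttabSeven

theorem card_co0' : Nat.card ↥Co0 = 8315553613086720000 := CfsgLeech.co0_card

theorem two_torsion {Γ : Type} [Group Γ] [Finite Γ] {σ : Γ →* ↥Co0} (hσ : Cfsg.IsStemExtension σ) {z : Γ}
    (hz : z ∈ σ.ker) (hzp : z ^ 2 = 1) : z = 1 := by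
  obtain ⟨ht, hf⟩ := facts_of_ok factsTwo_ok
  have hle : 2 ^ certTwo.n ≤ Nat.card (Subgroup.closure (gE gwTwo '' {k | k < certTwo.n})) := by
    rw [chainTwo_size.2, show (2 : ℕ) ^ 22 = 4194304 by norm_num, ← chainTwo_size.1]
    exact card_closure_ge (runSound_words chainTwo_ok.1 22) chainTwo_ok.2
  refine Collect.eq_one_of_sq_surjective (fun y hy => Collect.sq_surjective hσ (fun Δ _ _ τ hτ hexp => ?_) hy) 1 z hz
    (by rwa [pow_one])
  rw [eq_bot_iff]
  intro x hx
  have hupper := Collect.card_lift (C := certTwo) (Gl := gE gwTwo) (Tl := gE twTwo) (E := fun _ => (1 : ↥Co0))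
    (fun _ _ => Commute.one_left _) (fun _ => one_mul _) ht (fun m => by
      show _ = _ * (1 : ↥Co0)
      rw [mul_one]
      by_cases hm : m < certTwo.facts.length
      · exact hf m hm
      · rw [show certTwo.fact m = (0, [], []) from List.getD_eq_default _ _ (not_lt.mp hm)]
        simp [Collect.ev_nil, ht]) certTwo_ok
  have hone : ∀ f : ℕ, Collect.zz (fun _ => (1 : ↥Co0)) certTwo.facts.length f = 1 := by
    intro f
    induction certTwo.facts.length with
    | zero => rfl
    | succ k ih => simp [Collect.zz, ih]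
  simp only [hone, mul_one] at hupper
  have hindex := Collect.pow_index_eq_one hτ hexp certTwo certTwo_ok (gE gwTwo) (gE twTwo) ht hf hle hx
  have hmul := Subgroup.card_mul_index (Subgroup.closure (gE gwTwo '' {k | k < certTwo.n}))
  rw [le_antisymm hupper hle, card_co0', chainTwo_size.2] at hmul
  rw [show (Subgroup.closure (gE gwTwo '' {k | k < certTwo.n})).index = 1982582476875 by
    rw [chainTwo_size.2]; norm_num at hmul; omega] at hindex
  have := pow_gcd_eq_one.mpr ⟨show x ^ 2 = 1 by rw [pow_two]; exact hexp x hx, hindex⟩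
  rwa [show Nat.gcd 2 1982582476875 = 1 by norm_num, pow_one] at this

theorem odd_torsion (C : CollectP.Cert) (hC : C.check = true) (hp : C.p.Prime) {gw tw : List (List CfsgLeech.Step)}
    {Gs Ts : List Tab} (hF : okFactsT gw tw Gs Ts C.facts = true) (hn : C.n ≤ gw.length)
    {ch : List (ℕ × List (List ℕ))} (hch : chainOK (runT Gs) C.n [] ch = true) (hsize : chainSize ch = C.p ^ C.n)
    (hdiv : ¬ C.p * C.p ^ C.n ∣ 8315553613086720000)
    {Γ : Type} [Group Γ] [Finite Γ] {σ : Γ →* ↥Co0} (hσ : Cfsg.IsStemExtension σ) {z : Γ}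
    (hz : z ∈ σ.ker) (hzp : z ^ C.p = 1) : z = 1 := by
  obtain ⟨ht, hf⟩ := facts_of_okT hF
  have hG : tabsOK gw Gs = true := by
    simp only [okFactsT, Bool.and_eq_true] at hF
    exact hF.1.1.1
  have hle : C.p ^ C.n ≤ Nat.card (Subgroup.closure (gE gw '' {k | k < C.n})) :=
    hsize ▸ card_closure_ge (runSound_tabs hG hn) hch
  refine CollectP.no_torsion hσ hp (fun Δ _ _ τ hτ hexp => ?_) hz hzp
  rw [eq_bot_iff]
  intro x hx
  have hupper := CollectP.card_lift C (Gl := gE gw) (Tl := gE tw) (E := fun _ => (1 : ↥Co0))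
    (fun _ _ => Commute.one_left _) (fun _ => one_pow _) ht (fun m => by
      show _ = _ * (1 : ↥Co0)
      rw [mul_one]
      by_cases hm : m < C.facts.length
      · exact hf m hm
      · rw [show C.fact m = (0, [], []) from List.getD_eq_default _ _ (not_lt.mp hm)]
        simp [Collect.ev_nil, ht]) hC
  have hone : ∀ f : ℕ → ℤ, CollectMod.zz (fun _ => (1 : ↥Co0)) C.facts.length f = 1 := by
    intro f
    induction C.facts.length with
    | zero => rfl
    | succ k ih => simp [CollectMod.zz, ih]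
  simp only [hone, mul_one] at hupper
  have hindex := CollectP.pow_index_eq_one hτ C hexp hC (gE gw) (gE tw) ht hf hle hx
  have hmul := Subgroup.card_mul_index (Subgroup.closure (gE gw '' {k | k < C.n}))
  rw [le_antisymm hupper hle, card_co0'] at hmul
  have hco : Nat.Coprime C.p (Subgroup.closure (gE gw '' {k | k < C.n})).index :=
    (Nat.Prime.coprime_iff_not_dvd hp).mpr
      fun h => hdiv (by rw [← hmul, mul_comm C.p]; exact Nat.mul_dvd_mul_left _ h)
  have := pow_gcd_eq_one.mpr ⟨hexp x hx, hindex⟩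
  rwa [hco.gcd_eq_one, pow_one] at this

theorem stem_ker {Γ : Type} [Group Γ] [Finite Γ] {σ : Γ →* ↥Co0} (hσ : Cfsg.IsStemExtension σ) :
    σ.ker = ⊥ := by
  classical
  have k2 : ∀ w ∈ σ.ker, w ^ 2 = 1 → w = 1 := fun w hw h => two_torsion hσ hw h
  have k3 : ∀ w ∈ σ.ker, w ^ 3 = 1 → w = 1 := fun w hw h => by
    have hp : certThree.p = 3 := by with_unfolding_all rfl
    obtain ⟨h1, h2, h3⟩ := chainThree_size
    exact odd_torsion certThree certThree_ok (by rw [hp]; norm_num) factsThree_ok (by rw [h2, h3])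
      (by rw [h2]; exact chainThree_ok) (by rw [h1, h2, hp]; norm_num) (by rw [h2, hp]; norm_num) hσ hw (by rwa [hp])
  have k5 : ∀ w ∈ σ.ker, w ^ 5 = 1 → w = 1 := fun w hw h => by
    have hp : certFive.p = 5 := by with_unfolding_all rfl
    obtain ⟨h1, h2, h3⟩ := chainFive_size
    exact odd_torsion certFive certFive_ok (by rw [hp]; norm_num) factsFive_ok (by rw [h2, h3])
      (by rw [h2]; exact chainFive_ok) (by rw [h1, h2, hp]; norm_num) (by rw [h2, hp]; norm_num) hσ hw (by rwa [hp])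
  have k7 : ∀ w ∈ σ.ker, w ^ 7 = 1 → w = 1 := fun w hw h => by
    have hp : certSeven.p = 7 := by with_unfolding_all rfl
    obtain ⟨h1, h2, h3⟩ := chainSeven_size
    exact odd_torsion certSeven certSeven_ok (by rw [hp]; norm_num) factsSeven_ok (by rw [h2, h3])
      (by rw [h2]; exact chainSeven_ok) (by rw [h1, h2, hp]; norm_num) (by rw [h2, hp]; norm_num) hσ hw (by rwa [hp])
  have kc : ∀ p : ℕ, p.Prime → p ∣ 8315553613086720000 → ¬ p * p ∣ 8315553613086720000 →
      ∀ w ∈ σ.ker, w ^ p = 1 → w = 1 := fun p hp hd hd2 w hw hwp => by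
    haveI : Fact p.Prime := ⟨hp⟩
    obtain ⟨g, hg⟩ := exists_prime_orderOf_dvd_card' (G := ↥Co0) p (by rw [card_co0']; exact hd)
    refine CfsgPC.no_torsion_cyclic (g := g) hp (hg ▸ pow_orderOf_eq_one g) (fun h => ?_) (by rwa [card_co0']) hσ hw hwp
    rw [h, orderOf_one] at hg
    exact hp.one_lt.ne hg
  have kill : ∀ {p : ℕ}, (∀ w ∈ σ.ker, w ^ p = 1 → w = 1) → ∀ (k m : ℕ), ∀ z ∈ σ.ker, z ^ (p ^ k * m) = 1 → z ^ m = 1 := by
    intro p h k
    induction k with
    | zero => intro m z _ hz; simpa using hz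
    | succ k ih =>
      intro m z hzH hz
      refine h _ (pow_mem hzH m) ?_
      rw [← pow_mul, mul_comm]
      exact ih (p * m) z hzH (by rw [← hz]; congr 1; ring)
  rw [eq_bot_iff]
  intro z hz
  rw [Subgroup.mem_bot]
  have h0 : z ^ 8315553613086720000 = 1 := by
    have := CfsgLib.StSL.pow_index_eq_one_of_cyclic hσ (1 : ↥Co0) hz
    rwa [zpowers_one_eq_bot, index_bot, card_co0'] at this
  rw [show (8315553613086720000 : ℕ) = 2 ^ 22 * (3 ^ 9 * (5 ^ 4 * (7 ^ 2 * (11 ^ 1 * (13 ^ 1 * (23 ^ 1 * 1)))))) by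
    norm_num] at h0
  have h := kill (kc 23 (by norm_num) (by norm_num) (by norm_num)) 1 _ z hz
    (kill (kc 13 (by norm_num) (by norm_num) (by norm_num)) 1 _ z hz
    (kill (kc 11 (by norm_num) (by norm_num) (by norm_num)) 1 _ z hz
    (kill k7 2 _ z hz (kill k5 4 _ z hz (kill k3 9 _ z hz (kill k2 22 _ z hz h0))))))
  rwa [pow_one] at h

/-- Finite central extensions of a perfect group without stem extensions have sections. -/
theorem exists_section {G : Type} [Group G] [Finite G] (hperf : commutator G = ⊤)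
    (hker : ∀ (Γ : Type) [Group Γ] [Finite Γ] (σ : Γ →* G), Cfsg.IsStemExtension σ → σ.ker = ⊥)
    {S : Type} [Group S] [Finite S] (q : S →* G) (hq : Function.Surjective q) (hqc : q.ker ≤ Subgroup.center S) :
    ∃ s : G →* S, ∀ d, q (s d) = d := by
  have htop : (commutator S).map q = ⊤ := by
    rw [_root_.commutator_def, Subgroup.map_commutator, Subgroup.map_top_of_surjective q hq]
    exact hperf
  have hsplit : ∀ a : S, ∃ d ∈ commutator S, q a = q d := fun a => by
    obtain ⟨d, hd, he⟩ := htop.ge (Subgroup.mem_top (q a))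
    exact ⟨d, hd, he.symm⟩
  have hD : commutator S ≤ ⁅commutator S, commutator S⁆ := by
    rw [_root_.commutator_def, Subgroup.commutator_le]
    intro a _ b _
    obtain ⟨d, hd, ha⟩ := hsplit a
    obtain ⟨d', hd', hb⟩ := hsplit b
    rw [CfsgLib.StSL.comm_congr hqc ha hb]
    exact Subgroup.commutator_mem_commutator hd hd'
  let τ : ↥(commutator S) →* G := q.comp (commutator S).subtype
  have hτs : Function.Surjective τ := fun y => by
    obtain ⟨d, hd, he⟩ := htop.ge (Subgroup.mem_top y)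
    exact ⟨⟨d, hd⟩, he⟩
  have hstem : Cfsg.IsStemExtension τ := by
    refine ⟨hτs, fun x hx => Subgroup.mem_center_iff.mpr fun g => Subtype.ext
      (Subgroup.mem_center_iff.mp (hqc (show q x = 1 from hx)) g), fun x _ => ?_⟩
    have h2 := Subgroup.map_commutator (⊤ : Subgroup ↥(commutator S)) ⊤ (commutator S).subtype
    rw [← MonoidHom.range_eq_map, Subgroup.range_subtype, ← _root_.commutator_def] at h2
    obtain ⟨y, hy, hye⟩ := h2.ge (hD x.2)
    rwa [← Subtype.ext (show (y : S) = (x : S) from hye)]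
  let e : ↥(commutator S) ≃* G := MulEquiv.ofBijective τ ⟨(MonoidHom.ker_eq_bot_iff τ).mp (hker _ τ hstem), hτs⟩
  exact ⟨(commutator S).subtype.comp e.symm.toMonoidHom, fun d => e.apply_symm_apply d⟩

theorem multiplier : Cfsg.HasCyclicSchurMultiplier Cfsg.Spor.Co1 2 := by
  classical
  let θ : ↥Co0 →* Cfsg.Spor.Co1 := QuotientGroup.mk' (Subgroup.center ↥Co0)
  have hk : θ.ker = Subgroup.center ↥Co0 := QuotientGroup.ker_mk' _
  have hc2 : Nat.card ↥θ.ker = 2 := by rw [hk]; exact CfsgLeech.center_card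
  haveI : Fact (Nat.Prime 2) := ⟨Nat.prime_two⟩
  obtain ⟨π, hπ⟩ := CfsgLib.SchurSmall.exists_surjective_of_cyclic (K := ↥θ.ker) (isCyclic_of_prime_card hc2)
    (n := 2) (by rw [hc2])
  refine ⟨⟨↥Co0, inferInstance, inferInstance, θ,
    ⟨QuotientGroup.mk'_surjective _, hk.le, by rw [CfsgLeech.co0_perfect]; exact le_top⟩, ?_⟩, fun Γ _ _ σ hσ => ?_⟩
  · exact ⟨(MulEquiv.ofBijective π ((Nat.bijective_iff_surjective_and_card π).mpr
      ⟨hπ, by rw [hc2]; simp⟩)).symm⟩
  obtain ⟨hs, hc, hcomm⟩ := hσ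
  let S : Subgroup (Γ × ↥Co0) := (σ.comp (MonoidHom.fst _ _)).eqLocus (θ.comp (MonoidHom.snd _ _))
  let q : S →* ↥Co0 := (MonoidHom.snd _ _).comp S.subtype
  have hq : Function.Surjective q := fun d => by
    obtain ⟨g, hg⟩ := hs (θ d)
    exact ⟨⟨(g, d), hg⟩, rfl⟩
  have hqc : q.ker ≤ Subgroup.center S := by
    rintro ⟨⟨g, d⟩, hm⟩ hd
    have hd' : d = 1 := hd
    subst hd'
    have hg : g ∈ Subgroup.center Γ := hc ((show σ g = θ 1 from hm).trans (map_one θ))
    rw [Subgroup.mem_center_iff]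
    rintro ⟨⟨g', d'⟩, hm'⟩
    exact Subtype.ext (Prod.ext (Subgroup.mem_center_iff.mp hg g') (by simp))
  obtain ⟨s, hs'⟩ := exists_section CfsgLeech.co0_perfect (fun _ _ _ _ h => stem_ker h) q hq hqc
  let τ : ↥Co0 →* Γ := ((MonoidHom.fst _ _).comp S.subtype).comp s
  have hτ : ∀ d, σ (τ d) = θ d := fun d => by
    have h1 : σ (s d).1.1 = θ (s d).1.2 := (s d).2
    rwa [show (s d).1.2 = d from hs' d] at h1
  have hle : commutator Γ ≤ τ.range := by
    rw [_root_.commutator_def, Subgroup.commutator_le]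
    intro a _ b _
    obtain ⟨a', ha⟩ := QuotientGroup.mk'_surjective (Subgroup.center ↥Co0) (σ a)
    obtain ⟨b', hb⟩ := QuotientGroup.mk'_surjective (Subgroup.center ↥Co0) (σ b)
    refine ⟨⁅a', b'⁆, ?_⟩
    rw [map_commutatorElement]
    exact CfsgLib.StSL.comm_congr hc ((hτ a').trans ha) ((hτ b').trans hb)
  let f : θ.ker →* σ.ker := (τ.comp θ.ker.subtype).codRestrict _ fun x => by
    rw [MonoidHom.mem_ker]
    exact (hτ x.1).trans x.2
  refine ⟨f.comp π, fun y => ?_⟩
  obtain ⟨x, hx⟩ := hle (hcomm y.2)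
  have hxk : θ x = 1 := by rw [← hτ x, hx]; exact y.2
  obtain ⟨a, ha⟩ := hπ ⟨x, hxk⟩
  exact ⟨a, Subtype.ext (by simpa [f, ha] using hx)⟩

end CfsgLib.CoOneMult
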